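import Groth.Prelude.Def_W4sga3iivvp2RelPsh
import Mathlib.CategoryTheory.Sites.Over

/-!
# Sheaf conditions for relative presheaves
-/

universe v u
open CategoryTheory Opposite

namespace GrothLib.RelPsh20

variable {C : Type u} [Category.{v} C] {J : GrothendieckTopology C}
variable {S : C} {F : Cᵒᵖ ⥤ Type v} (φ : F ⟶ yoneda.obj S)

theorem phi_map {X Y : C} (g : Y ⟶ X) (x : F.obj (op X)) :
    φ.app (op Y) (F.map g.op x) = g ≫ φ.app (op X) x := by
  rw [NatTrans.naturality_apply φ g.op x]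
  rfl

theorem relPsh_ext {T : Over S} {a b : (ShfCat.relPsh φ).obj (op T)} (h : a.1 = b.1) : a = b :=
  Subtype.ext h

theorem isSeparated_relPsh (hF : Presieve.IsSeparated J F) :
    Presieve.IsSeparated (J.over S) (ShfCat.relPsh φ) := by
  intro T R hR x a b ha hb
  apply relPsh_ext
  refine (hF _ ((J.mem_over_iff R).1 hR)).ext fun Y g hg => ?_
  rw [Sieve.overEquiv_iff] at hg
  have h := (ha _ hg).trans (hb _ hg).symm
  exact congrArg Subtype.val h

theorem isSeparated_of_relPsh (hS : Presieve.IsSheaf J (yoneda.obj S))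
    (h : Presieve.IsSeparated (J.over S) (ShfCat.relPsh φ)) : Presieve.IsSeparated J F := by
  intro X R hR x a b ha hb
  have hφ : φ.app (op X) a = φ.app (op X) b := by
    refine (hS R hR).isSeparatedFor.ext fun Y g hg => ?_
    change g ≫ φ.app (op X) a = g ≫ φ.app (op X) b
    rw [← phi_map, ← phi_map, (ha g hg).trans (hb g hg).symm]
  let T : Over S := Over.mk (φ.app (op X) a)
  let a' : (ShfCat.relPsh φ).obj (op T) := ⟨a, rfl⟩
  let b' : (ShfCat.relPsh φ).obj (op T) := ⟨b, hφ.symm⟩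
  have : a' = b' := by
    refine (h ((Sieve.overEquiv T).symm R) (J.overEquiv_symm_mem_over T R hR)).ext fun W g hg => ?_
    apply relPsh_ext
    exact (ha g.left hg).trans (hb g.left hg).symm
  exact congrArg Subtype.val this

theorem isSheaf_relPsh (hS : Presieve.IsSheaf J (yoneda.obj S)) (hF : Presieve.IsSheaf J F) :
    Presieve.IsSheaf (J.over S) (ShfCat.relPsh φ) := by
  intro T R hR x hx
  have hR' := (J.mem_over_iff R).1 hR
  let y : Presieve.FamilyOfElements F (Sieve.overEquiv T R).arrows := fun Y g hg =>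
    (x (Over.homMk g : Over.mk (g ≫ T.hom) ⟶ T) ((Sieve.overEquiv_iff R g).1 hg)).1
  have hy : y.Compatible := by
    intro Y₁ Y₂ Z g₁ g₂ f₁ f₂ h₁ h₂ w
    exact congrArg Subtype.val (hx
      (Over.homMk g₁ : Over.mk (g₁ ≫ f₁ ≫ T.hom) ⟶ Over.mk (f₁ ≫ T.hom))
      (Over.homMk g₂ (by simp [reassoc_of% w]) :
        Over.mk (g₁ ≫ f₁ ≫ T.hom) ⟶ Over.mk (f₂ ≫ T.hom))
      ((Sieve.overEquiv_iff R f₁).1 h₁) ((Sieve.overEquiv_iff R f₂).1 h₂)
      (Over.OverMorphism.ext (by simpa using w)))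
  obtain ⟨t, ht, -⟩ := hF _ hR' y hy
  have hφ : φ.app (op T.left) t = T.hom := by
    refine (hS _ hR').isSeparatedFor.ext fun Y g hg => ?_
    change g ≫ φ.app (op T.left) t = g ≫ T.hom
    rw [← phi_map, ht g hg]
    exact (x (Over.homMk g : Over.mk (g ≫ T.hom) ⟶ T) ((Sieve.overEquiv_iff R g).1 hg)).2
  let t' : (ShfCat.relPsh φ).obj (op T) := ⟨t, hφ⟩
  have hamal : x.IsAmalgamation t' := by
    intro W g hg
    apply relPsh_ext
    have hg' : Sieve.overEquiv T R g.left :=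
      ⟨W, g, 𝟙 _, hg, by simp⟩
    refine (ht g.left hg').trans ?_
    have := congrArg Subtype.val (hx
      (𝟙 (Over.mk (g.left ≫ T.hom)))
      (Over.homMk (𝟙 W.left) (by simp [Over.w g]) : Over.mk (g.left ≫ T.hom) ⟶ W)
      ((Sieve.overEquiv_iff R g.left).1 hg') hg (Over.OverMorphism.ext (by simp)))
    simpa [ShfCat.relPsh_map_val, y] using this
  refine ⟨t', hamal, fun s hs => ?_⟩
  exact (isSeparated_relPsh φ (fun _ R hR => (hF R hR).isSeparatedFor) R hR) x s t' hs hamal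

theorem isSheaf_of_relPsh (hS : Presieve.IsSheaf J (yoneda.obj S))
    (h : Presieve.IsSheaf (J.over S) (ShfCat.relPsh φ)) : Presieve.IsSheaf J F := by
  intro X R hR x hx
  obtain ⟨f, hf, -⟩ := hS R hR (fun Y g hg => φ.app (op Y) (x g hg)) (by
    intro Y₁ Y₂ Z g₁ g₂ f₁ f₂ h₁ h₂ w
    change g₁ ≫ φ.app (op Y₁) (x f₁ h₁) = g₂ ≫ φ.app (op Y₂) (x f₂ h₂)
    rw [← phi_map, ← phi_map, hx g₁ g₂ h₁ h₂ w])
  let T : Over S := Over.mk f
  let x' : Presieve.FamilyOfElements (ShfCat.relPsh φ) ((Sieve.overEquiv T).symm R).arrows :=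
    fun W g hg => ⟨x g.left hg, (hf g.left hg).symm.trans (Over.w g)⟩
  have hx' : x'.Compatible := by
    intro Y₁ Y₂ Z g₁ g₂ f₁ f₂ h₁ h₂ w
    exact relPsh_ext φ (hx g₁.left g₂.left h₁ h₂ (congrArg CommaMorphism.left w))
  obtain ⟨t, ht, -⟩ := h _ (J.overEquiv_symm_mem_over T R hR) x' hx'
  have hamal : x.IsAmalgamation t.1 := by
    intro Y g hg
    exact congrArg Subtype.val (ht (Over.homMk g : Over.mk (g ≫ f) ⟶ T) hg)
  exact ⟨t.1, hamal, fun s hs =>
    (isSeparated_of_relPsh φ hS (fun _ R hR => (h R hR).isSeparatedFor) R hR) x s t.1 hs hamal⟩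

end GrothLib.RelPsh20
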